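import Mathlib

/-!
# S5175, task Q2d (`StHol`): interface between the abstract part and the two groups (helper663)

`Rel r w d` : the defining relations of `Hol(C₈)` (order 32); `Grp G` : elements `r, w, d, a` of a group `G` of order
`32 m`, `m` odd, with `Rel r w d` and `a` acting with order 3 on the four-group `⟨r⁴, w⟩` and centralizing `d`.
-/

set_option autoImplicit false

namespace Cfsg.Agent.H663.Hol

/-- `⟨r, w, d⟩` is the holomorph of the cyclic group of order 8 -/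
structure Rel {G : Type*} [Group G] (r w d : G) : Prop where
  or : orderOf r = 8
  ww : w ^ 2 = 1
  dd : d ^ 2 = 1
  wr : w * r * w⁻¹ = r⁻¹
  dr : d * r * d⁻¹ = r ^ 5
  wd : w * d = d * w
  card : Nat.card (Subgroup.closure ({r, w, d} : Set G)) = 32

/-- the subgroup `⟨r², rw, d⟩ ≅ Q₈ ∘ C₄` -/
def RR {G : Type*} [Group G] (r w d : G) : Subgroup G := Subgroup.closure {r ^ 2, r * w, d}

/-- the group side of `StHol` -/
structure Grp {G : Type*} [Group G] (r w d a : G) : Prop where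
  rel : Rel r w d
  ad : a * d * a⁻¹ = d
  ar : a * r ^ 4 * a⁻¹ = w
  aw : a * w * a⁻¹ = r ^ 4 * w
  card : ∃ m : ℕ, Odd m ∧ Nat.card G = 32 * m

/-- no element of `G` induces an automorphism of order 3 of `RR r w d` -/
def NoThree {G : Type*} [Group G] (r w d : G) : Prop :=
  ∀ g : G, (∀ x ∈ RR r w d, g * x * g⁻¹ ∈ RR r w d) → (∀ x ∈ RR r w d, g ^ 3 * x * (g ^ 3)⁻¹ = x) →
    ∀ x ∈ RR r w d, g * x * g⁻¹ = x

/-- TASK A: the group `Aut(A₆)` -/
def StGrpA : Prop :=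
  ∃ r w d a : MulAut (alternatingGroup (Fin 6)), Grp r w d a ∧ NoThree r w d

/-- TASK B: the group `Aut(PSL₃(3))` -/
def StGrpB : Prop :=
  ∃ r w d a b : MulAut (Matrix.ProjectiveSpecialLinearGroup (Fin 3) (ZMod 3)), Grp r w d a ∧
    (∀ x ∈ RR r w d, b * x * b⁻¹ ∈ RR r w d) ∧ (∀ x ∈ RR r w d, b ^ 3 * x * (b ^ 3)⁻¹ = x) ∧
    ∃ x ∈ RR r w d, b * x * b⁻¹ ≠ x

end Cfsg.Agent.H663.Hol
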