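import Cfsg.Agent.H802.FusAlp

/-!
# Comparison of saturated fusion systems at the prime 2 by automorphisms of odd order (helper663)
-/

set_option autoImplicit false

namespace Cfsg.Agent.H663.Hol

open Cfsg Cfsg.FusionSystem Cfsg.Agent.H802

/-- A finite group is generated by a subgroup of odd index and its elements of odd order. -/
theorem top_of_odd {A : Type*} [Group A] [Finite A] (C : Subgroup A) (h1 : Odd C.index)
    (h2 : ∀ a : A, Odd (orderOf a) → a ∈ C) : C = ⊤ := by
  set N := Subgroup.closure {a : A | Odd (orderOf a)} with hN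
  have hNn : N.Normal := by
    constructor
    intro n hn g
    have h3 : N.map (MulAut.conj g).toMonoidHom ≤ N := by
      rw [hN, MonoidHom.map_closure, Subgroup.closure_le]
      rintro _ ⟨a, ha, rfl⟩
      apply Subgroup.subset_closure
      show Odd (orderOf _)
      rw [MulEquiv.coe_toMonoidHom, MulEquiv.orderOf_eq]
      exact ha
    exact h3 ⟨n, hn, rfl⟩
  have hNC : N ≤ C := by
    rw [hN, Subgroup.closure_le]
    exact fun a ha => h2 a ha
  have hp : IsPGroup 2 (A ⧸ N) := by
    intro x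
    obtain ⟨a, rfl⟩ := QuotientGroup.mk_surjective x
    obtain ⟨k, m, hm, hk⟩ := Nat.exists_eq_two_pow_mul_odd (n := orderOf a) (orderOf_pos a).ne'
    refine ⟨k, ?_⟩
    rw [← QuotientGroup.mk_pow, QuotientGroup.eq_one_iff]
    apply Subgroup.subset_closure
    show Odd (orderOf (a ^ 2 ^ k))
    rw [orderOf_pow' a (by positivity), hk, Nat.gcd_comm, Nat.gcd_mul_right_right, Nat.mul_div_cancel_left _ (by positivity)]
    exact hm
  obtain ⟨j, hj⟩ := IsPGroup.iff_card.1 hp
  have h3 : C.index ∣ 2 ^ j := by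
    rw [← hj]
    exact Subgroup.index_dvd_of_le hNC
  have h4 : C.index = 1 :=
    Nat.eq_one_of_dvd_coprimes (Nat.Coprime.pow_right j (Nat.coprime_two_right.2 h1)) dvd_rfl h3
  exact Subgroup.index_eq_one.1 h4

/-- the version inside an ambient group -/
theorem le_of_odd {H : Type*} [Group H] [Finite H] {A B P : Subgroup H} (hPA : P ≤ A) (hPB : P ≤ B)
    (h1 : Odd (P.relIndex A)) (h2 : ∀ a ∈ A, Odd (orderOf a) → a ∈ B) : A ≤ B := by
  have h3 : (A ⊓ B).subgroupOf A = ⊤ := by
    apply top_of_odd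
    · have h4 : ((A ⊓ B).subgroupOf A).index ∣ P.relIndex A :=
        Subgroup.index_dvd_of_le (Subgroup.comap_mono (le_inf hPA hPB))
      exact Odd.of_dvd_nat h1 h4
    · intro a ha
      rw [Subgroup.mem_subgroupOf]
      refine ⟨a.2, h2 a a.2 ?_⟩
      rwa [Subgroup.orderOf_coe]
  exact (Subgroup.subgroupOf_eq_top.1 h3).trans inf_le_right

variable {Ω : Type*} [Group Ω] {S : Subgroup Ω}

/-- **Comparison**: it suffices to consider automorphisms of odd order of fully normalized centric subgroups. -/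
theorem hom_le_of_odd [Finite S] (hS : IsPGroup 2 S) {F F' : FusionSystem S} (hF : F.IsSaturated 2)
    (h : ∀ Q : Subgroup Ω, Q ≤ S → F.IsFullyNormalized Q → centralizerIn S Q ≤ Q →
      ∀ α ∈ F.autGroup Q, Odd (orderOf α) → α ∈ F'.autGroup Q) (P : Subgroup Ω) :
    F.Hom P ⊆ F'.Hom P := by
  have : Fact (Nat.Prime 2) := ⟨Nat.prime_two⟩
  refine le_of_centric hS hF F' (fun Q hQ hc _ => ?_) P
  have hfin : Finite Q := finite_of_le hQ.1
  have hle := autInducedBy_le_autGroup F hQ.1
  refine le_of_odd hle (autInducedBy_le_autGroup F' hQ.1) ?_ (h Q hQ.1 hQ ?_)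
  · have h1 := (isFullyAutomized_iff_card hS hQ.1).1 (isFullyAutomized_of_isFullyNormalized hS hF hQ)
    have h2 : Nat.card (autInducedBy S Q) * (autInducedBy S Q).relIndex (F.autGroup Q) = Nat.card (F.autGroup Q) := by
      rw [← Subgroup.relIndex_bot_left, ← Subgroup.relIndex_bot_left]
      exact Subgroup.relIndex_mul_relIndex _ _ _ bot_le hle
    rw [h1] at h2
    have h3 := Nat.ordProj_mul_ordCompl_eq_self (Nat.card (F.autGroup Q)) 2
    have h4 : (autInducedBy S Q).relIndex (F.autGroup Q) =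
        Nat.card (F.autGroup Q) / 2 ^ (Nat.card (F.autGroup Q)).factorization 2 := by
      refine Nat.eq_of_mul_eq_mul_left (show 0 < 2 ^ (Nat.card (F.autGroup Q)).factorization 2 by positivity) ?_
      rw [h2, h3]
    rw [h4, ← Nat.not_even_iff_odd, even_iff_two_dvd]
    exact Nat.not_dvd_ordCompl Nat.prime_two Nat.card_pos.ne'
  · exact hc.2 Q (isConj_refl F hQ.1)

end Cfsg.Agent.H663.Hol
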