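import Cfsg.Agent.H663.Hol.LemV

/-!
# Automorphisms of `R = ⟨r², rw, d⟩ ≅ Q₈ ∘ C₄` (helper663)
-/

set_option autoImplicit false
set_option maxRecDepth 20000

namespace Cfsg.Agent.H663.Hol

open M Act

/-- the elements of the centre `⟨r²d⟩` of `R` -/
def cz (g : M) : Bool := g == 1 || g == r ^ 4 || g == r ^ 2 * d || g == (r ^ 2 * d)⁻¹

theorem cz_iff (g : M) : cz g = true ↔ g = 1 ∨ g = r ^ 4 ∨ g = r ^ 2 * d ∨ g = (r ^ 2 * d)⁻¹ := by
  simp [cz, or_assoc]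

theorem cz_mul : ∀ g h : M, cz g = true → cz h = true → cz (g * h) = true := by decide
theorem cz_inv : ∀ g : M, cz g = true → cz g⁻¹ = true := by decide
theorem cz_mem : ∀ g : M, cz g = true → g ∈ RM := by decide
theorem cz_comm : ∀ g : M, cz g = true → ∀ x ∈ RM, x * g = g * x := by decide
theorem cz_four : ∀ g ∈ RM, cz g = true ∨ cz ((r ^ 2)⁻¹ * g) = true ∨ cz ((r * w)⁻¹ * g) = true ∨
    cz ((r ^ 3 * w)⁻¹ * g) = true := by decide

theorem hx : (r ^ 2 : M) ∈ RM := by decide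
theorem hy : (r * w : M) ∈ RM := by decide
theorem hxy : (r ^ 3 * w : M) ∈ RM := by decide
theorem hc : (r ^ 2 * d : M) ∈ RM := by decide

/-- no odd automorphism swaps two disjoint sets -/
theorem Act.swap_false {K : Subgroup M} {f : M → M} (h : Act K f) (P Q : M → Prop) (h1 : ∀ u ∈ K, P u → Q (f u))
    (h2 : ∀ u ∈ K, Q u → P (f u)) (h3 : ∀ u, P u → Q u → False) {u : M} (hu : u ∈ K) (hP : P u) : False := by
  obtain ⟨m, ⟨k, rfl⟩, hm⟩ := h.odd
  have h4 : ∀ n, f^[n] u ∈ K := by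
    intro n
    induction n with
    | zero => exact hu
    | succ n ih =>
      rw [Function.iterate_succ_apply']
      exact h.map _ ih
  have h5 : ∀ n, P (f^[2 * n] u) := by
    intro n
    induction n with
    | zero => exact hP
    | succ n ih =>
      rw [show 2 * (n + 1) = 2 * n + 1 + 1 from rfl, Function.iterate_succ_apply', Function.iterate_succ_apply']
      exact h2 _ (h.map _ (h4 _)) (h1 _ (h4 _) ih)
  have h6 : Q (f^[2 * k + 1] u) := by
    rw [Function.iterate_succ_apply']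
    exact h1 _ (h4 _) (h5 k)
  rw [hm u hu] at h6
  exact h3 u hP h6

variable {f : M → M}

theorem r_c (h : Act RM f) : f (r ^ 2 * d) = r ^ 2 * d := by
  have h1 : ∀ y ∈ RM, r ^ 2 * y = y * r ^ 2 → (r * w) * y = y * (r * w) → y ^ 2 ≠ 1 →
    y = r ^ 2 * d ∨ y = (r ^ 2 * d)⁻¹ := by decide
  have h2 := h.comm_of (cz_comm _ (by decide)) hc
  have h3 := h1 _ (h.map _ hc) (h2 _ hx) (h2 _ hy) (by
    rw [← h.pow hc]
    exact h.ne_one (RM.pow_mem hc 2) (by decide))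
  refine h.pair (y := (r ^ 2 * d)⁻¹) hc h3 ?_
  rw [h.inv hc]
  rcases h3 with e | e
  · right
    rw [e]
  · left
    rw [e, inv_inv]

theorem r_cz (h : Act RM f) {g : M} (hg : cz g = true) : f g = g := by
  rcases (cz_iff g).1 hg with e | e | e | e
  · rw [e, h.one]
  · have h1 : (r ^ 4 : M) = (r ^ 2 * d) ^ 2 := by decide
    rw [e, h1, h.pow hc, r_c h]
  · rw [e, r_c h]
  · rw [e, h.inv hc, r_c h]

theorem r_fix (h : Act RM f) {u : M} (hu : u ∈ RM) (h1 : cz (u⁻¹ * f u) = true) : f u = u :=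
  h.fix' hu (r_cz h h1)

/-- `f` is injective on classes -/
theorem r_inj (h : Act RM f) {u v : M} (hu : u ∈ RM) (hv : v ∈ RM) (h1 : cz ((f u)⁻¹ * f v) = true) :
    cz (u⁻¹ * v) = true := by
  have h2 : f (u⁻¹ * v) = (f u)⁻¹ * f v := by rw [h.mul _ (RM.inv_mem hu) _ hv, h.inv hu]
  have h3 : u⁻¹ * v = (f u)⁻¹ * f v := h.inj (RM.mul_mem (RM.inv_mem hu) hv) (cz_mem _ h1) (by
    rw [h2, r_cz h h1])
  rw [h3]
  exact h1

/-- class transfer -/
theorem r_cls (h : Act RM f) {u v s : M} (hu : u ∈ RM) (_hs : s ∈ RM) (h1 : cz (v⁻¹ * f u) = true)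
    (h2 : cz (u⁻¹ * s) = true) : cz (v⁻¹ * f s) = true := by
  have h3 : f s = f u * (u⁻¹ * s) := by
    have h4 : s = u * (u⁻¹ * s) := by group
    conv_lhs => rw [h4]
    rw [h.mul _ hu _ (cz_mem _ h2), r_cz h h2]
  rw [h3, ← mul_assoc]
  exact cz_mul _ _ h1 h2

theorem r_swap (h : Act RM f) {u v : M} (hu : u ∈ RM) (hv : v ∈ RM) (huv : cz (u⁻¹ * v) = false)
    (h1 : cz (v⁻¹ * f u) = true) (h2 : cz (u⁻¹ * f v) = true) : False := by
  refine h.swap_false (fun s => cz (u⁻¹ * s) = true) (fun s => cz (v⁻¹ * s) = true)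
    (fun s hs hP => r_cls h hu hs h1 hP) (fun s hs hP => r_cls h hv hs h2 hP) (fun s hP hQ => ?_) hu ?_
  · have h3 := cz_mul _ _ hP (cz_inv _ hQ)
    have h4 : u⁻¹ * s * (v⁻¹ * s)⁻¹ = u⁻¹ * v := by group
    rw [h4, huv] at h3
    exact absurd h3 (by decide)
  · show cz (u⁻¹ * u) = true
    rw [inv_mul_cancel]
    decide

/-- the two types of automorphisms of odd order -/
def T1 (f : M → M) : Prop := cz ((r * w)⁻¹ * f (r ^ 2)) = true ∧ cz ((r ^ 3 * w)⁻¹ * f (r * w)) = true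
def T2 (f : M → M) : Prop := cz ((r ^ 3 * w)⁻¹ * f (r ^ 2)) = true ∧ cz ((r ^ 2)⁻¹ * f (r * w)) = true

/-- a map multiplicative on `RM` is determined by the values on `x, y, c` -/
theorem r_ext {f g : M → M} (hf1 : f 1 = 1) (hg1 : g 1 = 1) (hf : ∀ x ∈ RM, ∀ y ∈ RM, f (x * y) = f x * f y)
    (hg : ∀ x ∈ RM, ∀ y ∈ RM, g (x * y) = g x * g y) (e1 : f (r ^ 2) = g (r ^ 2)) (e2 : f (r * w) = g (r * w))
    (e3 : f (r ^ 2 * d) = g (r ^ 2 * d)) : ∀ x ∈ RM, f x = g x := by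
  have h1 : ∀ u ∈ RM, ∃ i : Fin 2, ∃ j : Fin 2, ∃ k : Fin 4, u = (r ^ 2) ^ (i : ℕ) * (r * w) ^ (j : ℕ) * (r ^ 2 * d) ^ (k : ℕ) := by
    decide
  have hpow : ∀ (f : M → M), f 1 = 1 → (∀ x ∈ RM, ∀ y ∈ RM, f (x * y) = f x * f y) → ∀ x ∈ RM, ∀ n : ℕ,
      f (x ^ n) = f x ^ n := by
    intro f hf1 hf x hx n
    induction n with
    | zero => rw [pow_zero, pow_zero, hf1]
    | succ n ih => rw [pow_succ, pow_succ, hf _ (RM.pow_mem hx n) _ hx, ih]
  intro u hu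
  obtain ⟨i, j, k, rfl⟩ := h1 u hu
  have hx' := RM.pow_mem hx (i : ℕ)
  have hy' := RM.pow_mem hy (j : ℕ)
  have hc' := RM.pow_mem hc (k : ℕ)
  rw [hf _ (RM.mul_mem hx' hy') _ hc', hf _ hx' _ hy', hg _ (RM.mul_mem hx' hy') _ hc', hg _ hx' _ hy',
    hpow f hf1 hf _ hx, hpow f hf1 hf _ hy, hpow f hf1 hf _ hc, hpow g hg1 hg _ hx, hpow g hg1 hg _ hy,
    hpow g hg1 hg _ hc, e1, e2, e3]

theorem r_types (h : Act RM f) : (∀ u ∈ RM, f u = u) ∨ T1 f ∨ T2 f := by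
  have hcls : ∀ u ∈ RM, cz u = false → cz (f u) = false := by
    intro u hu hcu
    cases hfu : cz (f u) with
    | false => rfl
    | true =>
      have := r_inj h (u := 1) (v := u) RM.one_mem hu (by rw [h.one, inv_one, one_mul]; exact hfu)
      rw [inv_one, one_mul, hcu] at this
      exact absurd this (by decide)
  have h1 : ∀ u ∈ RM, cz u = false → cz ((r ^ 2)⁻¹ * f u) = true ∨ cz ((r * w)⁻¹ * f u) = true ∨
      cz ((r ^ 3 * w)⁻¹ * f u) = true := by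
    intro u hu hcu
    rcases cz_four _ (h.map u hu) with e | e
    · rw [hcls u hu hcu] at e
      exact absurd e (by decide)
    · exact e
  -- classes of the images of `x`, `y` are different
  have hdiff : ∀ v : M, cz (v⁻¹ * f (r ^ 2)) = true → cz (v⁻¹ * f (r * w)) = true → False := by
    intro v e1 e2
    have e3 := cz_mul _ _ (cz_inv _ e1) e2
    have e4 : (v⁻¹ * f (r ^ 2))⁻¹ * (v⁻¹ * f (r * w)) = (f (r ^ 2))⁻¹ * f (r * w) := by group
    rw [e4] at e3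
    exact absurd (r_inj h hx hy e3) (by decide)
  rcases h1 _ hx (by decide) with e | e | e <;> rcases h1 _ hy (by decide) with g | g | g
  · exact (hdiff _ e g).elim
  · left
    have e1 := r_fix h hx e
    have e2 := r_fix h hy g
    exact r_ext (g := fun x => x) h.one rfl h.mul (fun _ _ _ _ => rfl) e1 e2 (r_c h)
  · -- swap of y and xy
    have e1 := r_fix h hx e
    exfalso
    refine r_swap h hy hxy (by decide) g ?_
    have e2 : (r ^ 3 * w : M) = r ^ 2 * (r * w) := by decide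
    rw [e2, h.mul _ hx _ hy, e1]
    rw [e2] at g
    have hu := h.map _ hy
    have e3 : ∀ u ∈ RM, cz ((r ^ 2 * (r * w))⁻¹ * u) = true → cz ((r * w)⁻¹ * (r ^ 2 * u)) = true := by decide
    exact e3 _ hu g
  · exact (r_swap h hx hy (by decide) e g).elim
  · exact (hdiff _ e g).elim
  · exact Or.inr (Or.inl ⟨e, g⟩)
  · exact Or.inr (Or.inr ⟨e, g⟩)
  · have e1 := r_fix h hy g
    exfalso
    refine r_swap h hx hxy (by decide) e ?_
    have e2 : (r ^ 3 * w : M) = r ^ 2 * (r * w) := by decide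
    rw [e2, h.mul _ hx _ hy, e1]
    rw [e2] at e
    have hu := h.map _ hx
    have e3 : ∀ u ∈ RM, cz ((r ^ 2 * (r * w))⁻¹ * u) = true → cz ((r ^ 2)⁻¹ * (u * (r * w))) = true := by decide
    exact e3 _ hu e
  · exact (hdiff _ e g).elim

/-- `f³ = 1` for automorphisms of odd order of `R` -/
theorem r_cube (h : Act RM f) : ∀ u ∈ RM, f (f (f u)) = u := by
  have h3 : Act RM (fun u => f (f (f u))) := by
    refine ⟨fun x hx => h.map _ (h.map _ (h.map _ hx)), fun x hx y hy => ?_, ?_⟩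
    · show f (f (f (x * y))) = f (f (f x)) * f (f (f y))
      rw [h.mul x hx y hy, h.mul _ (h.map _ hx) _ (h.map _ hy),
        h.mul _ (h.map _ (h.map _ hx)) _ (h.map _ (h.map _ hy))]
    · obtain ⟨m, hm, hm'⟩ := h.odd
      refine ⟨m, hm, fun x hx => ?_⟩
      have e1 : (fun u => f (f (f u))) = f^[3] := rfl
      have e2 : ∀ n, ∀ x ∈ RM, (f^[m])^[n] x = x := by
        intro n
        induction n with
        | zero => intro x _; rfl
        | succ n ih =>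
          intro x hx
          rw [Function.iterate_succ_apply, hm' x hx, ih x hx]
      rw [e1, ← Function.iterate_mul, mul_comm, Function.iterate_mul]
      exact e2 3 x hx
  have h4 : ∀ v : M, v ∈ RM → cz (v⁻¹ * f (f (f v))) = true → f (f (f v)) = v := fun v hv e => r_fix h3 hv e
  rcases r_types h with e | ⟨e1, e2⟩ | ⟨e1, e2⟩
  · intro u hu
    rw [e u hu, e u hu, e u hu]
  · -- x → y → xy → x
    have e3 : cz ((r ^ 2)⁻¹ * f (r ^ 3 * w)) = true := by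
      have e2' : (r ^ 3 * w : M) = r ^ 2 * (r * w) := by decide
      rw [e2', h.mul _ hx _ hy]
      have e3 : ∀ u ∈ RM, ∀ v ∈ RM, cz ((r * w)⁻¹ * u) = true → cz ((r ^ 3 * w)⁻¹ * v) = true →
        cz ((r ^ 2)⁻¹ * (u * v)) = true := by decide
      exact e3 _ (h.map _ hx) _ (h.map _ hy) e1 e2
    have ex : f (f (f (r ^ 2))) = r ^ 2 := h4 _ hx
      (r_cls h hxy (h.map _ (h.map _ hx)) e3 (r_cls h hy (h.map _ hx) e2 e1))
    have ey : f (f (f (r * w))) = r * w := h4 _ hy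
      (r_cls h hx (h.map _ (h.map _ hy)) e1 (r_cls h hxy (h.map _ hy) e3 e2))
    exact r_ext (g := fun x => x) h3.one rfl h3.mul (fun _ _ _ _ => rfl) ex ey (r_c h3)
  · -- x → xy → y → x
    have e3 : cz ((r * w)⁻¹ * f (r ^ 3 * w)) = true := by
      have e2' : (r ^ 3 * w : M) = r ^ 2 * (r * w) := by decide
      rw [e2', h.mul _ hx _ hy]
      have e3 : ∀ u ∈ RM, ∀ v ∈ RM, cz ((r ^ 3 * w)⁻¹ * u) = true → cz ((r ^ 2)⁻¹ * v) = true →
        cz ((r * w)⁻¹ * (u * v)) = true := by decide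
      exact e3 _ (h.map _ hx) _ (h.map _ hy) e1 e2
    have ex : f (f (f (r ^ 2))) = r ^ 2 := h4 _ hx
      (r_cls h hy (h.map _ (h.map _ hx)) e2 (r_cls h hxy (h.map _ hx) e3 e1))
    have ey : f (f (f (r * w))) = r * w := h4 _ hy
      (r_cls h hxy (h.map _ (h.map _ hy)) e3 (r_cls h hx (h.map _ hy) e1 e2))
    exact r_ext (g := fun x => x) h3.one rfl h3.mul (fun _ _ _ _ => rfl) ex ey (r_c h3)

/-- composition of opposite types is trivial on classes -/
theorem r_comp12 {f g : M → M} (hf : Act RM f) (hg : Act RM g) (h : (T1 f ∧ T2 g) ∨ (T2 f ∧ T1 g)) :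
    cz ((r ^ 2)⁻¹ * f (g (r ^ 2))) = true ∧ cz ((r * w)⁻¹ * f (g (r * w))) = true := by
  have e2' : (r ^ 3 * w : M) = r ^ 2 * (r * w) := by decide
  rcases h with ⟨⟨e1, e2⟩, ⟨g1, g2⟩⟩ | ⟨⟨e1, e2⟩, ⟨g1, g2⟩⟩
  · have e3 : cz ((r ^ 2)⁻¹ * f (r ^ 3 * w)) = true := by
      rw [e2', hf.mul _ hx _ hy]
      have e3 : ∀ u ∈ RM, ∀ v ∈ RM, cz ((r * w)⁻¹ * u) = true → cz ((r ^ 3 * w)⁻¹ * v) = true →
        cz ((r ^ 2)⁻¹ * (u * v)) = true := by decide
      exact e3 _ (hf.map _ hx) _ (hf.map _ hy) e1 e2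
    exact ⟨r_cls hf hxy (hg.map _ hx) e3 g1, r_cls hf hx (hg.map _ hy) e1 g2⟩
  · have e3 : cz ((r * w)⁻¹ * f (r ^ 3 * w)) = true := by
      rw [e2', hf.mul _ hx _ hy]
      have e3 : ∀ u ∈ RM, ∀ v ∈ RM, cz ((r ^ 3 * w)⁻¹ * u) = true → cz ((r ^ 2)⁻¹ * v) = true →
        cz ((r * w)⁻¹ * (u * v)) = true := by decide
      exact e3 _ (hf.map _ hx) _ (hf.map _ hy) e1 e2
    exact ⟨r_cls hf hy (hg.map _ hx) e2 g1, r_cls hf hxy (hg.map _ hy) e3 g2⟩

/-- the square has the other type -/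
theorem r_sq {f : M → M} (hf : Act RM f) : (T1 f → T2 (fun u => f (f u))) ∧ (T2 f → T1 (fun u => f (f u))) := by
  have e2' : (r ^ 3 * w : M) = r ^ 2 * (r * w) := by decide
  constructor
  · rintro ⟨e1, e2⟩
    have e3 : cz ((r ^ 2)⁻¹ * f (r ^ 3 * w)) = true := by
      rw [e2', hf.mul _ hx _ hy]
      have e3 : ∀ u ∈ RM, ∀ v ∈ RM, cz ((r * w)⁻¹ * u) = true → cz ((r ^ 3 * w)⁻¹ * v) = true →
        cz ((r ^ 2)⁻¹ * (u * v)) = true := by decide
      exact e3 _ (hf.map _ hx) _ (hf.map _ hy) e1 e2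
    exact ⟨r_cls hf hy (hf.map _ hx) e2 e1, r_cls hf hxy (hf.map _ hy) e3 e2⟩
  · rintro ⟨e1, e2⟩
    have e3 : cz ((r * w)⁻¹ * f (r ^ 3 * w)) = true := by
      rw [e2', hf.mul _ hx _ hy]
      have e3 : ∀ u ∈ RM, ∀ v ∈ RM, cz ((r ^ 3 * w)⁻¹ * u) = true → cz ((r ^ 2)⁻¹ * v) = true →
        cz ((r * w)⁻¹ * (u * v)) = true := by decide
      exact e3 _ (hf.map _ hx) _ (hf.map _ hy) e1 e2
    exact ⟨r_cls hf hxy (hf.map _ hx) e3 e1, r_cls hf hx (hf.map _ hy) e1 e2⟩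

theorem act_sq {K : Subgroup M} (h : Act K f) : Act K (fun u => f (f u)) := by
  refine ⟨fun x hx => h.map _ (h.map _ hx), fun x hx y hy => ?_, ?_⟩
  · show f (f (x * y)) = f (f x) * f (f y)
    rw [h.mul x hx y hy, h.mul _ (h.map _ hx) _ (h.map _ hy)]
  · obtain ⟨m, hm, hm'⟩ := h.odd
    refine ⟨m, hm, fun x hx => ?_⟩
    have e1 : (fun u => f (f u)) = f^[2] := rfl
    have e2 : ∀ n, ∀ x ∈ K, (f^[m])^[n] x = x := by
      intro n
      induction n with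
      | zero => intro x _; rfl
      | succ n ih =>
        intro x hx
        rw [Function.iterate_succ_apply, hm' x hx, ih x hx]
    rw [e1, ← Function.iterate_mul, mul_comm, Function.iterate_mul]
    exact e2 2 x hx

/-- an automorphism fixing the centre and acting trivially on classes is inner -/
theorem r_inner {f : M → M} (h1 : f 1 = 1) (hm : ∀ x ∈ RM, ∀ y ∈ RM, f (x * y) = f x * f y) (hmap : ∀ x ∈ RM, f x ∈ RM)
    (hfc : f (r ^ 2 * d) = r ^ 2 * d) (hfx : cz ((r ^ 2)⁻¹ * f (r ^ 2)) = true)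
    (hfy : cz ((r * w)⁻¹ * f (r * w)) = true) : ∃ g ∈ RM, ∀ u ∈ RM, f u = g * u * g⁻¹ := by
  have hz : f (r ^ 4) = r ^ 4 := by
    have e : (r ^ 4 : M) = (r ^ 2 * d) * (r ^ 2 * d) := by decide
    rw [e, hm _ hc _ hc, hfc]
  have hx2 : f (r ^ 2) * f (r ^ 2) = r ^ 4 := by
    rw [← hm _ hx _ hx, ← hz]
    congr 1
  have hy2 : f (r * w) * f (r * w) = 1 := by
    rw [← hm _ hy _ hy, ← h1]
    congr 1
  have e1 : ∀ u ∈ RM, cz ((r ^ 2)⁻¹ * u) = true → u * u = r ^ 4 → u = r ^ 2 ∨ u = r ^ 2 * r ^ 4 := by decide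
  have e2 : ∀ u ∈ RM, cz ((r * w)⁻¹ * u) = true → u * u = 1 → u = r * w ∨ u = (r * w) * r ^ 4 := by decide
  have key : ∀ g ∈ RM, f (r ^ 2) = g * r ^ 2 * g⁻¹ → f (r * w) = g * (r * w) * g⁻¹ →
      ∀ u ∈ RM, f u = g * u * g⁻¹ := by
    intro g hg a1 a2
    refine r_ext (g := fun u => g * u * g⁻¹) h1 (by simp) hm (fun _ _ _ _ => by group) a1 a2 ?_
    show f (r ^ 2 * d) = g * (r ^ 2 * d) * g⁻¹
    rw [hfc, cz_comm (r ^ 2 * d) (by decide) g hg]
    group
  rcases e1 _ (hmap _ hx) hfx hx2 with a | a <;> rcases e2 _ (hmap _ hy) hfy hy2 with b | b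
  · exact ⟨1, by decide, key _ (by decide) (a.trans (by decide)) (b.trans (by decide))⟩
  · exact ⟨r ^ 2, by decide, key _ (by decide) (a.trans (by decide)) (b.trans (by decide))⟩
  · exact ⟨r * w, by decide, key _ (by decide) (a.trans (by decide)) (b.trans (by decide))⟩
  · exact ⟨r ^ 2 * (r * w), by decide, key _ (by decide) (a.trans (by decide)) (b.trans (by decide))⟩

/-- **Main lemma on `R`**: two nontrivial automorphisms of odd order -/
theorem r_main {β γ : MulAut RM} (h1 : Odd (orderOf β)) (h2 : Odd (orderOf γ)) (hβ : β ≠ 1) (hγ : γ ≠ 1) :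
    ∃ δ : MulAut RM, (δ = γ ∨ δ = γ * γ) ∧ ∃ g ∈ RM, ∀ u ∈ RM, fn (β * δ) u = g * u * g⁻¹ := by
  have a1 := act_fn β h1
  have a2 := act_fn γ h2
  have hid : ∀ β : MulAut RM, (∀ u ∈ RM, fn β u = u) → β = 1 := by
    intro β h
    apply eq_of_fn
    intro u hu
    rw [h u hu, fn_apply _ hu]
    rfl
  have inner : ∀ δ : MulAut RM, Act RM (fn δ) → ((T1 (fn β) ∧ T2 (fn δ)) ∨ (T2 (fn β) ∧ T1 (fn δ))) →
      ∃ g ∈ RM, ∀ u ∈ RM, fn (β * δ) u = g * u * g⁻¹ := by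
    intro δ hδ ht
    obtain ⟨b1, b2⟩ := r_comp12 a1 hδ ht
    refine r_inner ?_ (fun x hx y hy => fn_map_mul _ hx hy) (fun x hx => fn_mem _ hx) ?_ ?_ ?_
    · rw [fn_apply _ RM.one_mem]
      exact congrArg Subtype.val (map_one (β * δ))
    · rw [fn_mul _ _ hc, r_c hδ, r_c a1]
    · rw [fn_mul _ _ hx]
      exact b1
    · rw [fn_mul _ _ hy]
      exact b2
  have hsq : ∀ u ∈ RM, fn (γ * γ) u = fn γ (fn γ u) := fun u hu => fn_mul _ _ hu
  have a3 : Act RM (fn (γ * γ)) := by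
    have b := act_sq a2
    obtain ⟨m, hm, hm'⟩ := b.odd
    refine ⟨fun x hx => fn_mem _ hx, fun x hx y hy => fn_map_mul _ hx hy, m, hm, fun x hx => ?_⟩
    have e : ∀ n, ∀ x ∈ RM, (fn (γ * γ))^[n] x = (fun u => fn γ (fn γ u))^[n] x := by
      intro n
      induction n with
      | zero => intro x _; rfl
      | succ n ih =>
        intro x hx
        rw [Function.iterate_succ_apply, Function.iterate_succ_apply, hsq x hx, ih _ (fn_mem _ (fn_mem _ hx))]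
    rw [e m x hx]
    exact hm' x hx
  have t1 : T1 (fn γ) → T2 (fn (γ * γ)) := by
    intro h
    have h' := (r_sq a2).1 h
    refine ⟨?_, ?_⟩
    · rw [hsq _ hx]; exact h'.1
    · rw [hsq _ hy]; exact h'.2
  have t2 : T2 (fn γ) → T1 (fn (γ * γ)) := by
    intro h
    have h' := (r_sq a2).2 h
    refine ⟨?_, ?_⟩
    · rw [hsq _ hx]; exact h'.1
    · rw [hsq _ hy]; exact h'.2
  rcases r_types a1 with e | e | e
  · exact absurd (hid _ e) hβ
  · rcases r_types a2 with g | g | g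
    · exact absurd (hid _ g) hγ
    · exact ⟨γ * γ, Or.inr rfl, inner _ a3 (Or.inl ⟨e, t1 g⟩)⟩
    · exact ⟨γ, Or.inl rfl, inner _ a2 (Or.inl ⟨e, g⟩)⟩
  · rcases r_types a2 with g | g | g
    · exact absurd (hid _ g) hγ
    · exact ⟨γ, Or.inl rfl, inner _ a2 (Or.inr ⟨e, g⟩)⟩
    · exact ⟨γ * γ, Or.inr rfl, inner _ a3 (Or.inr ⟨e, t2 g⟩)⟩

/-- an automorphism of odd order of `R` has order dividing 3 -/
theorem r_order {β : MulAut RM} (h1 : Odd (orderOf β)) : β ^ 3 = 1 := by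
  apply eq_of_fn
  intro u hu
  rw [← fn_iter β 3 hu, fn_apply _ hu]
  exact r_cube (act_fn β h1) u hu

end Cfsg.Agent.H663.Hol
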